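import Cfsg.Agent.H753.NormModel
import Cfsg.Agent.H771.ModelUnique
import Cfsg.Agent.H802.FusKNorm
import Cfsg.Agent.H802.FusNorm
import Cfsg.Agent.S5098

/-!
# The model of `N_F(T)` for a centric subgroup `T` normalized by `S` (helper780)
-/

set_option autoImplicit false

namespace Cfsg.Agent.H780.HL

open Cfsg Cfsg.FusionSystem Cfsg.Agent.H752

universe u

variable {Ω : Type u} [Group Ω] {S : Subgroup Ω}

/-- properties of the model -/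
structure MdT (F : FusionSystem S) (T : Subgroup Ω) (L : Type*) [Group L] (ι : S →* L) (p : ℕ) : Prop where
  inj : Function.Injective ι
  syl : ∃ P : Sylow p L, (P : Subgroup L) = ι.range
  nor : ((T.subgroupOf S).map ι).Normal
  cen : Subgroup.centralizer (((T.subgroupOf S).map ι : Subgroup L) : Set L) ≤ (T.subgroupOf S).map ι
  to_L : ∀ (P : Subgroup Ω) (f : Ω → Ω), Mp F P f → T ≤ P → (∀ x ∈ T, f x ∈ T) →
    ∃ l : L, ∀ (x : Ω) (_ : x ∈ P) (hxS : x ∈ S), ∃ hfx : f x ∈ S, ι ⟨f x, hfx⟩ = l * ι ⟨x, hxS⟩ * l⁻¹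
  of_L : ∀ (P : Subgroup Ω) (hP : P ≤ S) (l : L), (∀ x : P, ∃ n : S, ι n = l * ι ⟨x, hP x.2⟩ * l⁻¹) →
    ∃ f, Mp F P f ∧ ∀ (x : Ω) (hx : x ∈ P), ∃ hfx : f x ∈ S, ι ⟨f x, hfx⟩ = l * ι ⟨x, hP hx⟩ * l⁻¹

theorem exists_modelT [Finite S] {p : ℕ} [Fact p.Prime] (hS : IsPGroup p S) {F : FusionSystem S} (hF : F.IsSaturated p)
    {T : Subgroup Ω} (hTS : T ≤ S) (hN : normalizerIn S T = S) (hTc : F.IsCentric T) :
    ∃ (L : Type u) (_ : Group L) (_ : Finite L) (ι : S →* L), MdT F T L ι p := by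
  have hST : S ≤ Subgroup.normalizer (T : Set Ω) := by
    intro s hs
    rw [← hN] at hs
    exact hs.2
  have hfn : F.IsFullyNormalized T := H771.isFullyNormalized_of_le_normalizer hTS hST
  obtain ⟨E₀, hE₀⟩ := H802.exists_normalizerSystem F hTS
  have hsat₀ : E₀.IsSaturated p := Cfsg.Agent.S5098.result p hS F hF T hfn E₀ hE₀
  have hnor₀ : E₀.IsNormal T := H753.isNormal_normalizerSystem hTS hE₀
  have hcen₀ : E₀.IsCentric T := H753.isCentric_normalizerSystem hE₀ hTc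
  have hmp₀ : ∀ (P : Subgroup Ω) (f : Ω → Ω), Mp E₀ P f ↔ Mp F P f ∧ P ≤ normalizerIn S T ∧ (∀ x ∈ P, f x ∈ normalizerIn S T) ∧
      ∃ g, Mp F (P ⊔ T) g ∧ (∀ x ∈ P, g x = f x) ∧ (∀ x ∈ T, g x ∈ T) ∧
        ∀ y ∈ T, ∃ x ∈ T, g x = y := fun P f => H753.mp_normalizerSystem_iff hE₀
  obtain ⟨E, hsat, hnor, hcen, hmp⟩ : ∃ E : FusionSystem S, E.IsSaturated p ∧ E.IsNormal T ∧ E.IsCentric T ∧
      ∀ (P : Subgroup Ω) (f : Ω → Ω), Mp E P f ↔ Mp F P f ∧ P ≤ S ∧ (∀ x ∈ P, f x ∈ S) ∧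
      ∃ g, Mp F (P ⊔ T) g ∧ (∀ x ∈ P, g x = f x) ∧ (∀ x ∈ T, g x ∈ T) ∧
        ∀ y ∈ T, ∃ x ∈ T, g x = y := by
    clear hE₀
    revert E₀
    generalize normalizerIn S T = S' at *
    subst hN
    intro E₀ h1 h2 h3 h4
    exact ⟨E₀, h1, h2, h3, h4⟩
  obtain ⟨L, hL, ι, hM, hLn, hLc⟩ := H771.exists_model hS hsat hnor hcen
  obtain ⟨hfin, hreal, hsyl, -⟩ := hM
  have : Finite T := H802.finite_of_le hTS
  refine ⟨L, hL, hfin, ι, hreal.1, hsyl, hLn, hLc, ?_, ?_⟩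
  · intro P f hf hTP hfT
    have h1 : Mp E P f := (hmp P f).2 ⟨hf, hf.le, fun x hx => hf.mem hx, f, by rwa [sup_eq_left.2 hTP], fun x _ => rfl, hfT,
      fun y hy => (hf.res hTP).surj hfT hy⟩
    obtain ⟨l, hl⟩ := H753.exists_conj_of_mp hreal h1
    exact ⟨l, hl⟩
  · intro P hP l hl
    obtain ⟨f, hf, h1⟩ := H753.exists_mp_of_conj hreal hP l hl
    exact ⟨f, ((hmp P f).1 hf).1, h1⟩

end Cfsg.Agent.H780.HL
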