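import Cfsg.Agent.H780.HL.Data

/-!
# S5175 [L]: embedding of `S` in `Aut(SL₃(K))` (helper780)
-/

set_option autoImplicit false
set_option linter.unusedSectionVars false

namespace Cfsg.Agent.H780.HL

open Cfsg Cfsg.FusionSystem Cfsg.Agent.H756.HM Cfsg.Agent.H752 Hs

universe u

theorem conj_act {G : Type*} [Group G] (α : MulAut G) (g : G) : α * MulAut.conj g * α⁻¹ = MulAut.conj (α g) := by
  rw [Hs.mul_conj, mul_inv_cancel_right]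

variable {Ω : Type u} [Group Ω] {S : Subgroup Ω} {F : FusionSystem S} {K : Type} [Field K] [Fintype K]
  {V T : Subgroup Ω} {x : Ω}

theorem conj_emb_inj {s t : Hs K} (h : MulAut.conj (emb s) = MulAut.conj (emb t)) : s = t := by
  have h1 : MulAut.conj (emb (t⁻¹ * s)) = 1 := by
    rw [map_mul, map_mul, map_inv, map_inv, h, inv_mul_cancel]
  exact (inv_mul_eq_one.1 (conj_um h1)).symm

/-- The embedding `θ` of `S` in `GG Y`, compatible with the maps of `F` normalizing `T`. -/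
structure RD {b : Big F K V T x} (c : LC b) (θ : S →* MulAut (SL3 K)) (Y : Subgroup (MulAut (SL3 K))) : Prop where
  inj : Function.Injective θ
  gy : GY Y
  onT : ∀ (t : Hs K) (h : kap c t ∈ S), θ ⟨kap c t, h⟩ = MulAut.conj (emb t)
  mem : ∀ s, θ s ∈ GG Y
  to_g : ∀ (P : Subgroup Ω) (f : Ω → Ω), Mp F P f → T ≤ P → (∀ t ∈ T, f t ∈ T) →
    ∃ g ∈ GG Y, ∀ (y : Ω) (_ : y ∈ P) (hy : y ∈ S), ∃ hfy : f y ∈ S, θ ⟨f y, hfy⟩ = g * θ ⟨y, hy⟩ * g⁻¹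
  of_g : ∀ (P : Subgroup Ω) (f : Ω → Ω), P ≤ S → T ≤ P → (∀ t ∈ T, f t ∈ T) → ∀ g ∈ GG Y,
    (∀ (y : Ω) (_ : y ∈ P) (hy : y ∈ S), ∃ hfy : f y ∈ S, θ ⟨f y, hfy⟩ = g * θ ⟨y, hy⟩ * g⁻¹) → Mp F P f
  of_y : ∀ y ∈ Y, ∃ f, Mp F T f ∧ ∀ t : Hs K, ∃ t', f (kap c t) = kap c t' ∧
    y * MulAut.conj (emb t) * y⁻¹ = MulAut.conj (emb t')

theorem exists_RD [Finite S] (hG2 : StG2) (hS : IsPGroup 2 S) (hF : F.IsSaturated 2) {b : Big F K V T x} (c : LC b) :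
    ∃ (θ : S →* MulAut (SL3 K)) (Y : Subgroup (MulAut (SL3 K))), RD c θ Y := by
  have : Fact (Nat.Prime 2) := ⟨Nat.prime_two⟩
  have hTS := T_le b
  have hTc : F.IsCentric T := by
    have h1 : F.IsFullyNormalized T := by
      refine ⟨hTS, fun Q hQ => ?_⟩
      rw [normalizerIn_T b]
      exact Nat.card_le_card_of_injective _ (Subgroup.inclusion_injective (inf_le_left : normalizerIn S Q ≤ S))
    refine H802.isCentric_of_isFullyCentralized (H802.isFullyCentralized_of_isFullyNormalized hS hF h1) ?_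
    intro s hs
    have h2 : s ∈ centralizerIn S V := ⟨hs.1, Subgroup.centralizer_le (V_le_T b) hs.2⟩
    rw [b.cent] at h2
    exact V_le_T b h2
  obtain ⟨L, hL, hfin, ι, hM⟩ := exists_modelT hS hF hTS (normalizerIn_T b) hTc
  obtain ⟨d, hd1, hd2, hd3, hd4, hd5⟩ := exists_SD c hS hF hM
  obtain ⟨Φ, hΦ1, hΦ2, hΦ3, hΦ4⟩ := d.exists_Phi
  have hgy : GY (d.Y.map Φ) := d.gy b.q4 ⟨b.n, b.hK⟩ hd2 hd3 hd4 hd5 hΦ2 hΦ3 hΦ4
  have hΦG : ∀ l, Φ l ∈ GG (d.Y.map Φ) := by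
    intro l
    obtain ⟨t, y, hy, rfl⟩ := d.exists_eq l
    rw [map_mul, hΦ1]
    exact mul_mem (Subgroup.mem_sup_left ⟨_, rfl⟩) (Subgroup.mem_sup_right ⟨y, hy, rfl⟩)
  have hinj : Function.Injective (Φ.comp ι) := hΦ4.comp hM.inj
  have honT : ∀ (t : Hs K) (h : kap c t ∈ S), Φ.comp ι ⟨kap c t, h⟩ = MulAut.conj (emb t) := by
    intro t h
    rw [MonoidHom.comp_apply, ← hd1, hΦ1]
  refine ⟨Φ.comp ι, d.Y.map Φ, hinj, hgy, honT, fun s => hΦG _, ?_, ?_, ?_⟩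
  · intro P f hf hTP hfT
    obtain ⟨l, hl⟩ := hM.to_L P f hf hTP hfT
    refine ⟨Φ l, hΦG l, fun y hy hyS => ?_⟩
    obtain ⟨h1, h2⟩ := hl y hy hyS
    refine ⟨h1, ?_⟩
    rw [MonoidHom.comp_apply, h2, map_mul, map_mul, map_inv, MonoidHom.comp_apply]
  · intro P f hPS hTP hfT g hg hgf
    obtain ⟨t, ht, y, hy, rfl⟩ := hG2 _ hgy g hg (by
      rintro _ ⟨a, b', d', rfl⟩
      obtain ⟨h1, h2⟩ := hgf (kap c ⟨a, b', d'⟩) (hTP (kap_mem c _)) (hTS (kap_mem c _))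
      rw [honT] at h2
      obtain ⟨s, hs⟩ := kap_surj c (hfT _ (kap_mem c ⟨a, b', d'⟩))
      have h3 : (⟨f (kap c ⟨a, b', d'⟩), h1⟩ : S) = ⟨kap c s, by rw [hs]; exact h1⟩ := Subtype.ext hs.symm
      rw [h3, honT, emb_apply] at h2
      rw [emb_apply] at h2
      exact ⟨_, _, _, h2.symm⟩)
    obtain ⟨a, b', d', rfl⟩ := ht
    obtain ⟨y₀, hy₀, rfl⟩ := hy
    have hl : MulAut.conj (um a b' d') * Φ y₀ = Φ (d.j ⟨a, b', d'⟩ * y₀) := by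
      rw [map_mul, hΦ1, emb_apply]
    rw [hl] at hgf
    obtain ⟨l, hle⟩ : ∃ l, l = d.j ⟨a, b', d'⟩ * y₀ := ⟨_, rfl⟩
    rw [← hle] at hgf
    have hgf2 : ∀ (y : Ω) (_ : y ∈ P) (hy : y ∈ S), ∃ hfy : f y ∈ S, ι ⟨f y, hfy⟩ = l * ι ⟨y, hy⟩ * l⁻¹ := by
      intro y hyP hyS
      obtain ⟨h1, h2⟩ := hgf y hyP hyS
      refine ⟨h1, hΦ4 ?_⟩
      rw [map_mul, map_mul, map_inv]
      exact h2
    obtain ⟨f', hf', h3⟩ := hM.of_L P hPS l (by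
      rintro ⟨y, hy⟩
      obtain ⟨h1, h2⟩ := hgf2 y hy (hPS hy)
      exact ⟨_, h2⟩)
    refine hf'.congr fun y hy => ?_
    obtain ⟨h1, h2⟩ := hgf2 y hy (hPS hy)
    obtain ⟨h4, h5⟩ := h3 y hy
    rw [← h2] at h5
    exact (congrArg Subtype.val (hM.inj h5)).symm
  · rintro _ ⟨y, hy, rfl⟩
    have h0 : ∀ t : Hs K, y * ι ⟨kap c t, hTS (kap_mem c t)⟩ * y⁻¹ = ι ⟨kap c (d.act y t), hTS (kap_mem c _)⟩ := by
      intro t
      rw [← hd1, ← hd1, d.hj]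
    obtain ⟨f, hf, h1⟩ := hM.of_L T hTS y (by
      rintro ⟨t, ht⟩
      obtain ⟨s, rfl⟩ := kap_surj c ht
      exact ⟨_, (h0 s).symm⟩)
    refine ⟨f, hf, fun t => ⟨d.act y t, ?_, ?_⟩⟩
    · obtain ⟨h2, h3⟩ := h1 _ (kap_mem c t)
      rw [h0] at h3
      exact congrArg Subtype.val (hM.inj h3)
    · rw [conj_act, hΦ3]

end Cfsg.Agent.H780.HL
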