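import Mathlib.LinearAlgebra.Matrix.SpecialLinearGroup
import Mathlib.Algebra.Group.End
import Mathlib.Data.Matrix.Basis
import Mathlib.Tactic

/-!
# S5175 [L]: `SL₃(K)`, unitriangular matrices, diagonal-field automorphisms and the graph automorphism (helper780)
-/

set_option autoImplicit false

namespace Cfsg.Agent.H780.HL

open Matrix

abbrev SL3 (K : Type*) [Field K] := Matrix.SpecialLinearGroup (Fin 3) K

variable {K : Type*} [Field K]

theorem val_mul (g h : SL3 K) : (g * h).1 = g.1 * h.1 := rfl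
theorem val_one : (1 : SL3 K).1 = 1 := rfl

theorem val_mul_apply (g h : SL3 K) (i j : Fin 3) :
    (g * h).1 i j = g.1 i 0 * h.1 0 j + g.1 i 1 * h.1 1 j + g.1 i 2 * h.1 2 j := by
  rw [val_mul, Matrix.mul_apply, Fin.sum_univ_three]

theorem ext3 {g h : SL3 K} (e : ∀ i j, g.1 i j = h.1 i j) : g = h := Subtype.ext (Matrix.ext e)

/-- the unitriangular matrix with `(1,2)`-entry `b`, `(2,3)`-entry `a`, `(1,3)`-entry `c` -/
def um (a b c : K) : SL3 K := ⟨!![1, b, c; 0, 1, a; 0, 0, 1], by simp [Matrix.det_fin_three]⟩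

theorem um_mul (a b c a' b' c' : K) : um a b c * um a' b' c' = um (a + a') (b + b') (c + c' + b * a') := by
  refine ext3 fun i j => ?_
  rw [val_mul_apply]
  fin_cases i <;> fin_cases j <;> simp [um] <;> ring

theorem um_zero : um (0 : K) 0 0 = 1 := by
  refine ext3 fun i j => ?_
  fin_cases i <;> fin_cases j <;> rfl

theorem um_inv (a b c : K) : (um a b c)⁻¹ = um (-a) (-b) (-c + b * a) := by
  rw [inv_eq_iff_mul_eq_one, um_mul, ← um_zero]
  congr 1 <;> ring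

theorem um_injective {a b c a' b' c' : K} (h : um a b c = um a' b' c') : a = a' ∧ b = b' ∧ c = c' := by
  have h1 := congrArg Subtype.val h
  refine ⟨?_, ?_, ?_⟩
  · simpa [um] using congrFun (congrFun h1 1) 2
  · simpa [um] using congrFun (congrFun h1 0) 1
  · simpa [um] using congrFun (congrFun h1 0) 2

/-- conjugation by an invertible diagonal matrix, as a map -/
def dmap (w : Fin 3 → Kˣ) (g : SL3 K) : SL3 K :=
  ⟨Matrix.of fun i j => (w i : K) * g.1 i j * ((w j)⁻¹ : Kˣ), by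
    have h := g.2
    rw [Matrix.det_fin_three] at h ⊢
    have h0 : ((w 0 : Kˣ) : K) * ((w 0)⁻¹ : Kˣ) = 1 := by simp
    have h1 : ((w 1 : Kˣ) : K) * ((w 1)⁻¹ : Kˣ) = 1 := by simp
    have h2 : ((w 2 : Kˣ) : K) * ((w 2)⁻¹ : Kˣ) = 1 := by simp
    simp only [Matrix.of_apply]
    calc _ = (((w 0 : Kˣ) : K) * ((w 0)⁻¹ : Kˣ)) * (((w 1 : Kˣ) : K) * ((w 1)⁻¹ : Kˣ)) * (((w 2 : Kˣ) : K) * ((w 2)⁻¹ : Kˣ)) *
        (g.1 0 0 * g.1 1 1 * g.1 2 2 - g.1 0 0 * g.1 1 2 * g.1 2 1 - g.1 0 1 * g.1 1 0 * g.1 2 2 + g.1 0 1 * g.1 1 2 * g.1 2 0 +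
          g.1 0 2 * g.1 1 0 * g.1 2 1 - g.1 0 2 * g.1 1 1 * g.1 2 0) := by ring
      _ = 1 := by rw [h0, h1, h2, h]; ring⟩

theorem dmap_apply (w : Fin 3 → Kˣ) (g : SL3 K) (i j : Fin 3) :
    (dmap w g).1 i j = (w i : K) * g.1 i j * ((w j)⁻¹ : Kˣ) := rfl

theorem dmap_mul (w : Fin 3 → Kˣ) (g h : SL3 K) : dmap w (g * h) = dmap w g * dmap w h := by
  refine ext3 fun i j => ?_
  rw [val_mul_apply, dmap_apply, dmap_apply, dmap_apply, dmap_apply, dmap_apply, dmap_apply, dmap_apply, val_mul_apply]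
  have h0 : (((w 0)⁻¹ : Kˣ) : K) * (w 0 : K) = 1 := by simp
  have h1 : (((w 1)⁻¹ : Kˣ) : K) * (w 1 : K) = 1 := by simp
  have h2 : (((w 2)⁻¹ : Kˣ) : K) * (w 2 : K) = 1 := by simp
  calc _ = (w i : K) * g.1 i 0 * 1 * h.1 0 j * ((w j)⁻¹ : Kˣ) + (w i : K) * g.1 i 1 * 1 * h.1 1 j * ((w j)⁻¹ : Kˣ) +
        (w i : K) * g.1 i 2 * 1 * h.1 2 j * ((w j)⁻¹ : Kˣ) := by ring
    _ = (w i : K) * g.1 i 0 * ((((w 0)⁻¹ : Kˣ) : K) * (w 0 : K)) * h.1 0 j * ((w j)⁻¹ : Kˣ) +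
        (w i : K) * g.1 i 1 * ((((w 1)⁻¹ : Kˣ) : K) * (w 1 : K)) * h.1 1 j * ((w j)⁻¹ : Kˣ) +
        (w i : K) * g.1 i 2 * ((((w 2)⁻¹ : Kˣ) : K) * (w 2 : K)) * h.1 2 j * ((w j)⁻¹ : Kˣ) := by rw [h0, h1, h2]
    _ = _ := by ring

theorem dmap_dmap (w w' : Fin 3 → Kˣ) (g : SL3 K) : dmap w (dmap w' g) = dmap (w * w') g := by
  refine ext3 fun i j => ?_
  rw [dmap_apply, dmap_apply, dmap_apply, Pi.mul_apply, Pi.mul_apply, _root_.mul_inv_rev]
  push_cast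
  ring

theorem dmap_one (g : SL3 K) : dmap 1 g = g := by
  refine ext3 fun i j => ?_
  rw [dmap_apply]
  simp

/-- conjugation by an invertible diagonal matrix -/
def dconj (w : Fin 3 → Kˣ) : MulAut (SL3 K) where
  toFun := dmap w
  invFun := dmap w⁻¹
  left_inv g := by rw [dmap_dmap, inv_mul_cancel, dmap_one]
  right_inv g := by rw [dmap_dmap, mul_inv_cancel, dmap_one]
  map_mul' := dmap_mul w

theorem dconj_apply (w : Fin 3 → Kˣ) (g : SL3 K) (i j : Fin 3) :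
    (dconj w g).1 i j = (w i : K) * g.1 i j * ((w j)⁻¹ : Kˣ) := rfl

/-- the field automorphism -/
def fld (σ : K ≃+* K) : MulAut (SL3 K) where
  toFun g := Matrix.SpecialLinearGroup.map (σ : K →+* K) g
  invFun g := Matrix.SpecialLinearGroup.map (σ.symm : K →+* K) g
  left_inv g := by apply Subtype.ext; ext i j; simp
  right_inv g := by apply Subtype.ext; ext i j; simp
  map_mul' g h := map_mul _ g h

theorem fld_apply (σ : K ≃+* K) (g : SL3 K) (i j : Fin 3) : (fld σ g).1 i j = σ (g.1 i j) := rfl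

/-- the diagonal matrix `diag(ν'ν, ν, 1)` -/
def wv (ν ν' : Kˣ) : Fin 3 → Kˣ := ![ν' * ν, ν, 1]

/-- the diagonal-field automorphism: `σ` followed by conjugation with `diag(ν'ν, ν, 1)` -/
def dg (ν ν' : Kˣ) (σ : K ≃+* K) : MulAut (SL3 K) := dconj (wv ν ν') * fld σ

theorem dg_apply (ν ν' : Kˣ) (σ : K ≃+* K) (g : SL3 K) (i j : Fin 3) :
    (dg ν ν' σ g).1 i j = (wv ν ν' i : K) * σ (g.1 i j) * ((wv ν ν' j)⁻¹ : Kˣ) := rfl

theorem dg_um (ν ν' : Kˣ) (σ : K ≃+* K) (a b c : K) :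
    dg ν ν' σ (um a b c) = um ((ν : K) * σ a) ((ν' : K) * σ b) ((ν : K) * ν' * σ c) := by
  refine ext3 fun i j => ?_
  rw [dg_apply]
  fin_cases i <;> fin_cases j <;> simp [um, wv]
  · field_simp
  · field_simp
  · left; ring

/-- the graph automorphism `g ↦ J g^{-T} J`, as a map -/
def gmap (g : SL3 K) : SL3 K :=
  ⟨Matrix.of fun i j => (g⁻¹).1 (Fin.rev j) (Fin.rev i), by
    obtain ⟨h, hh⟩ : ∃ h, h = g⁻¹ := ⟨_, rfl⟩
    rw [← hh]
    have h1 := h.2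
    rw [Matrix.det_fin_three] at h1 ⊢
    simp only [Matrix.of_apply]
    have e0 : (Fin.rev 0 : Fin 3) = 2 := rfl
    have e1 : (Fin.rev 1 : Fin 3) = 1 := rfl
    have e2 : (Fin.rev 2 : Fin 3) = 0 := rfl
    rw [e0, e1, e2]
    linear_combination h1⟩

theorem gmap_apply (g : SL3 K) (i j : Fin 3) : (gmap g).1 i j = (g⁻¹).1 (Fin.rev j) (Fin.rev i) := rfl

theorem gmap_mul (g h : SL3 K) : gmap (g * h) = gmap g * gmap h := by
  refine ext3 fun i j => ?_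
  rw [val_mul_apply, gmap_apply, gmap_apply, gmap_apply, gmap_apply, gmap_apply, gmap_apply, gmap_apply, _root_.mul_inv_rev,
    val_mul_apply]
  have e0 : (Fin.rev 0 : Fin 3) = 2 := rfl
  have e1 : (Fin.rev 1 : Fin 3) = 1 := rfl
  have e2 : (Fin.rev 2 : Fin 3) = 0 := rfl
  rw [e0, e1, e2]
  ring

theorem gmap_one : gmap (1 : SL3 K) = 1 := by
  have h1 : gmap (1 : SL3 K) * gmap 1 = gmap 1 * 1 := by rw [← gmap_mul, mul_one, mul_one]
  exact mul_left_cancel h1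

theorem gmap_inv (g : SL3 K) : gmap g⁻¹ = (gmap g)⁻¹ := by
  rw [eq_inv_iff_mul_eq_one, ← gmap_mul, inv_mul_cancel, gmap_one]

theorem gmap_gmap (g : SL3 K) : gmap (gmap g) = g := by
  refine ext3 fun i j => ?_
  rw [gmap_apply, ← gmap_inv, gmap_apply, inv_inv, Fin.rev_rev, Fin.rev_rev]

/-- the graph automorphism `g ↦ J g^{-T} J` -/
def gr : MulAut (SL3 K) where
  toFun := gmap
  invFun := gmap
  left_inv := gmap_gmap
  right_inv := gmap_gmap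
  map_mul' := gmap_mul

theorem gr_apply (g : SL3 K) (i j : Fin 3) : (gr g).1 i j = (g⁻¹).1 (Fin.rev j) (Fin.rev i) := rfl

theorem gr_um (a b c : K) : gr (um a b c) = um (-b) (-a) (-c + b * a) := by
  refine ext3 fun i j => ?_
  rw [gr_apply, um_inv]
  fin_cases i <;> fin_cases j <;> rfl

theorem gr_mul_gr : (gr : MulAut (SL3 K)) * gr = 1 := by
  ext1 g
  exact gmap_gmap g

theorem dg_mul_dg (ν ν' μ μ' : Kˣ) (σ τ : K ≃+* K) : dg ν ν' σ * dg μ μ' τ =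
    dg (ν * Units.map (σ : K →* K) μ) (ν' * Units.map (σ : K →* K) μ') (τ.trans σ) := by
  ext1 g
  refine ext3 fun i j => ?_
  rw [MulAut.mul_apply, dg_apply, dg_apply, dg_apply]
  fin_cases i <;> fin_cases j <;> simp [wv] <;> field_simp

theorem gr_mul_dg (ν ν' : Kˣ) (σ : K ≃+* K) : gr * dg ν ν' σ = dg ν' ν σ * gr := by
  ext1 g
  refine ext3 fun i j => ?_
  rw [MulAut.mul_apply, MulAut.mul_apply, gr_apply, ← map_inv, dg_apply, dg_apply, gr_apply]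
  generalize g⁻¹ = g'
  fin_cases i <;> fin_cases j <;> simp [wv] <;> field_simp <;> simp

theorem dg_one : dg (1 : Kˣ) 1 (RingEquiv.refl K) = 1 := by
  ext1 g
  refine ext3 fun i j => ?_
  rw [dg_apply]
  fin_cases i <;> fin_cases j <;> simp [wv]

theorem dg_inv (ν ν' : Kˣ) (σ : K ≃+* K) : (dg ν ν' σ)⁻¹ =
    dg (Units.map (σ.symm : K →* K) ν⁻¹) (Units.map (σ.symm : K →* K) ν'⁻¹) σ.symm := by
  rw [inv_eq_iff_mul_eq_one, dg_mul_dg, ← dg_one]
  congr 1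
  · ext; simp
  · ext; simp
  · ext; simp

variable (K)

/-- the diagonal-field automorphisms -/
def DF : Subgroup (MulAut (SL3 K)) where
  carrier := {α | ∃ ν ν' σ, α = dg ν ν' σ}
  one_mem' := ⟨1, 1, _, dg_one.symm⟩
  mul_mem' := by
    rintro _ _ ⟨ν, ν', σ, rfl⟩ ⟨μ, μ', τ, rfl⟩
    exact ⟨_, _, _, dg_mul_dg ν ν' μ μ' σ τ⟩
  inv_mem' := by
    rintro _ ⟨ν, ν', σ, rfl⟩
    exact ⟨_, _, _, dg_inv ν ν' σ⟩

/-- the diagonal-field-graph automorphisms -/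
def DD : Subgroup (MulAut (SL3 K)) where
  carrier := {α | ∃ ν ν' σ, α = dg ν ν' σ ∨ α = dg ν ν' σ * gr}
  one_mem' := ⟨1, 1, _, Or.inl dg_one.symm⟩
  mul_mem' := by
    rintro _ _ ⟨ν, ν', σ, rfl | rfl⟩ ⟨μ, μ', τ, rfl | rfl⟩
    · exact ⟨_, _, _, Or.inl (dg_mul_dg ν ν' μ μ' σ τ)⟩
    · exact ⟨_, _, _, Or.inr (by rw [← mul_assoc, dg_mul_dg])⟩
    · exact ⟨_, _, _, Or.inr (by rw [mul_assoc, gr_mul_dg, ← mul_assoc, dg_mul_dg])⟩
    · exact ⟨_, _, _, Or.inl (by rw [mul_assoc, ← mul_assoc gr, gr_mul_dg, mul_assoc, gr_mul_gr, mul_one, dg_mul_dg])⟩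
  inv_mem' := by
    rintro _ ⟨ν, ν', σ, rfl | rfl⟩
    · exact ⟨_, _, _, Or.inl (dg_inv ν ν' σ)⟩
    · have h1 : (gr : MulAut (SL3 K))⁻¹ = gr := inv_eq_of_mul_eq_one_left gr_mul_gr
      have h2 := gr_mul_dg (Units.map (σ.symm : K →* K) ν⁻¹) (Units.map (σ.symm : K →* K) ν'⁻¹) σ.symm
      rw [← dg_inv] at h2
      exact ⟨_, _, _, Or.inr (by rw [_root_.mul_inv_rev, h1]; exact h2)⟩

/-- the inner automorphisms of the unitriangular matrices -/
def Th : Subgroup (MulAut (SL3 K)) where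
  carrier := {α | ∃ a b c : K, α = MulAut.conj (um a b c)}
  one_mem' := ⟨0, 0, 0, by rw [um_zero, map_one]⟩
  mul_mem' := by
    rintro _ _ ⟨a, b, c, rfl⟩ ⟨a', b', c', rfl⟩
    exact ⟨_, _, _, by rw [← map_mul, um_mul]⟩
  inv_mem' := by
    rintro _ ⟨a, b, c, rfl⟩
    exact ⟨_, _, _, by rw [← map_inv, um_inv]⟩

end Cfsg.Agent.H780.HL
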