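import Cfsg.Agent.H780.HL.Hs

/-!
# S5175 [L]: splitting of the model of `N_F(T)` (helper780)

`L` contains a normal copy `j(Hs K)` of the Heisenberg group with `C_L(j) ≤ j`, acts on it by inner automorphisms times
diagonal-field-graph automorphisms, and contains an element acting as a diagonal automorphism without fixed points.
Then `L = j(Hs K) ⋊ Y` with `Y` acting by diagonal-field-graph automorphisms.
-/

set_option autoImplicit false

namespace Cfsg.Agent.H780.HL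

open Hs

variable {K : Type*} [Field K]

/-- the data of the model -/
structure SD (K : Type*) [Field K] (L : Type*) [Group L] where
  act : L →* MulAut (Hs K)
  j : Hs K →* L
  inj : Function.Injective j
  hj : ∀ l t, l * j t * l⁻¹ = j (act l t)
  ker : ∀ l, act l = 1 → ∃ t, l = j t
  form : ∀ l, ∃ t, ∃ δ ∈ DDh K, act l = MulAut.conj t * δ
  h : L
  ν : Kˣ
  ν' : Kˣ
  hν : ν ≠ 1
  hν' : ν' ≠ 1
  hνν' : ν * ν' ≠ 1
  act_h : act h = del ν ν' (RingEquiv.refl K)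

/-- diagonal automorphism -/
abbrev dt (ν ν' : Kˣ) : MulAut (Hs K) := del ν ν' (RingEquiv.refl K)

theorem dt_mul_dt (ν ν' μ μ' : Kˣ) : (dt ν ν' : MulAut (Hs K)) * dt μ μ' = dt (ν * μ) (ν' * μ') := by
  rw [dt, dt, del_mul_del]
  congr 1

theorem dt_inv (ν ν' : Kˣ) : (dt ν ν' : MulAut (Hs K))⁻¹ = dt ν⁻¹ ν'⁻¹ := by
  rw [inv_eq_iff_mul_eq_one, dt_mul_dt, mul_inv_cancel, mul_inv_cancel]
  exact del_one

theorem dt_apply (ν ν' : Kˣ) (t : Hs K) : dt ν ν' t = ⟨(ν : K) * t.a, (ν' : K) * t.b, (ν : K) * ν' * t.c⟩ := rfl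

/-- fixed points of diagonal automorphisms -/
theorem dt_fix {ν ν' : Kˣ} (h1 : ν ≠ 1) (h2 : ν' ≠ 1) (h3 : ν * ν' ≠ 1) {t : Hs K} (h : dt ν ν' t = t) : t = 1 := by
  rw [dt_apply] at h
  have ha := congrArg Hs.a h
  have hb := congrArg Hs.b h
  have hc := congrArg Hs.c h
  simp only at ha hb hc
  have key : ∀ (u : Kˣ) (x : K), u ≠ 1 → (u : K) * x = x → x = 0 := by
    intro u x hu hx
    by_contra h0
    apply hu
    apply Units.ext
    exact mul_right_cancel₀ h0 (by rw [hx]; simp)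
  refine Hs.ext (key ν _ h1 ha) (key ν' _ h2 hb) (key (ν * ν') _ h3 ?_)
  rw [Units.val_mul]; exact hc

/-- if a diagonal automorphism without fixed points commutes with `conj t * dt` then `t` is central -/
theorem conj_comm {ν ν' μ μ' : Kˣ} (h1 : ν ≠ 1) (h2 : ν' ≠ 1) {t : Hs K}
    (h : MulAut.conj t * dt μ μ' * dt ν ν' = dt ν ν' * (MulAut.conj t * dt μ μ')) : t.a = 0 ∧ t.b = 0 := by
  have e1 : MulAut.conj (t⁻¹ * dt ν ν' t) * del (1 : Kˣ) 1 (RingEquiv.refl K) = del 1 1 (RingEquiv.refl K) := by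
    rw [del_one, mul_one, map_mul, map_inv, inv_mul_eq_one]
    have e2 : dt ν ν' * (MulAut.conj t * dt μ μ') = MulAut.conj (dt ν ν' t) * (dt μ μ' * dt ν ν') := by
      rw [← mul_assoc, Hs.mul_conj, mul_assoc, dt_mul_dt, dt_mul_dt, mul_comm ν, mul_comm ν']
    rw [e2, mul_assoc] at h
    exact mul_right_cancel h
  obtain ⟨ha, hb, -⟩ := conj_del_inj e1
  have key : ∀ (u : Kˣ) (x : K), u ≠ 1 → -x + (u : K) * x = 0 → x = 0 := by
    intro u x hu hx
    by_contra h0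
    apply hu
    apply Units.ext
    have : (u : K) * x = x := by linear_combination hx
    exact mul_right_cancel₀ h0 (by rw [this]; simp)
  rw [mul_a, inv_a, dt_apply] at ha
  rw [mul_b, inv_b, dt_apply] at hb
  exact ⟨key ν _ h1 ha, key ν' _ h2 hb⟩

theorem conj_central {t : Hs K} (h1 : t.a = 0) (h2 : t.b = 0) : MulAut.conj t = (1 : MulAut (Hs K)) := by
  ext1 s
  rw [conj_apply, h1, h2]
  ext <;> simp

/-- conjugating a diagonal automorphism -/
theorem dd_dt {δ : MulAut (Hs K)} (hδ : δ ∈ DDh K) (ν ν' : Kˣ) : ∃ μ μ', δ * dt ν ν' = dt μ μ' * δ ∧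
    (ν ≠ 1 → ν' ≠ 1 → ν * ν' ≠ 1 → μ ≠ 1 ∧ μ' ≠ 1 ∧ μ * μ' ≠ 1) := by
  obtain ⟨κ, κ', σ, rfl | rfl⟩ := hδ
  · refine ⟨Units.map (σ : K →* K) ν, Units.map (σ : K →* K) ν', ?_, fun h1 h2 h3 => ⟨?_, ?_, ?_⟩⟩
    · rw [dt, dt, del_mul_del, del_mul_del]
      congr 1
      · rw [mul_comm]; rfl
      · rw [mul_comm]; rfl
    · intro h; apply h1; ext; have := congrArg Units.val h; simpa using this
    · intro h; apply h2; ext; have := congrArg Units.val h; simpa using this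
    · intro h
      apply h3
      ext
      have := congrArg Units.val h
      rw [← map_mul] at this
      exact (map_eq_one_iff σ σ.injective).1 this
  · refine ⟨Units.map (σ : K →* K) ν', Units.map (σ : K →* K) ν, ?_, fun h1 h2 h3 => ⟨?_, ?_, ?_⟩⟩
    · rw [mul_assoc, dt, dt, gam_mul_del, ← mul_assoc, ← mul_assoc, del_mul_del, del_mul_del]
      congr 2
      · rw [mul_comm]; rfl
      · rw [mul_comm]; rfl
    · intro h; apply h2; ext; have := congrArg Units.val h; simpa using this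
    · intro h; apply h1; ext; have := congrArg Units.val h; simpa using this
    · intro h
      apply h3
      rw [mul_comm]
      ext
      have := congrArg Units.val h
      rw [← map_mul] at this
      exact (map_eq_one_iff σ σ.injective).1 this

namespace SD

variable {L : Type*} [Group L] (d : SD K L)

theorem act_j (t : Hs K) : d.act (d.j t) = MulAut.conj t := by
  ext1 s
  apply d.inj
  rw [← d.hj, MulAut.conj_apply, map_mul, map_mul, map_inv]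

/-- for `l` acting as a diagonal automorphism and `g` acting as a diagonal automorphism without fixed points, a central
modification of `l` commutes with `g`. -/
theorem exists_z {l g : L} {μ μ' κ κ' : Kˣ} (hg : d.act g = dt μ μ') (hl : d.act l = dt κ κ') (hμ : μ * μ' ≠ 1) :
    ∃ t : Hs K, t.a = 0 ∧ t.b = 0 ∧ (d.j t * l) * g = g * (d.j t * l) := by
  obtain ⟨s, hs⟩ := d.ker (l * g * l⁻¹ * g⁻¹) (by
    rw [map_mul, map_mul, map_mul, map_inv, map_inv, hg, hl, dt_inv, dt_inv, dt_mul_dt, dt_mul_dt, dt_mul_dt]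
    rw [show κ * μ * κ⁻¹ * μ⁻¹ = 1 by rw [mul_comm κ]; group, show κ' * μ' * κ'⁻¹ * μ'⁻¹ = 1 by rw [mul_comm κ']; group]
    exact del_one)
  have hs1 : MulAut.conj s = 1 := by
    rw [← d.act_j, ← hs, map_mul, map_mul, map_mul, map_inv, map_inv, hg, hl, dt_inv, dt_inv, dt_mul_dt, dt_mul_dt, dt_mul_dt]
    rw [show κ * μ * κ⁻¹ * μ⁻¹ = 1 by rw [mul_comm κ]; group, show κ' * μ' * κ'⁻¹ * μ'⁻¹ = 1 by rw [mul_comm κ']; group]
    exact del_one
  obtain ⟨hsa, hsb, -⟩ := conj_del_inj (t := s) (ν := 1) (ν' := 1) (μ := 1) (μ' := 1) (σ := RingEquiv.refl K)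
    (τ := RingEquiv.refl K) (by rw [hs1, one_mul])
  have hlg : l * g = d.j s * g * l := by
    have : l * g * l⁻¹ * g⁻¹ * g * l = d.j s * g * l := by rw [hs]
    rw [← this]; group
  have hne : (μ : K) * μ' - 1 ≠ 0 := by
    intro h
    apply hμ
    apply Units.ext
    rw [Units.val_mul, Units.val_one]
    exact sub_eq_zero.1 h
  refine ⟨⟨0, 0, s.c / ((μ : K) * μ' - 1)⟩, rfl, rfl, ?_⟩
  have h1 : g * d.j ⟨0, 0, s.c / ((μ : K) * μ' - 1)⟩ = d.j ⟨0, 0, (μ : K) * μ' * (s.c / ((μ : K) * μ' - 1))⟩ * g := by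
    have := d.hj g ⟨0, 0, s.c / ((μ : K) * μ' - 1)⟩
    rw [hg, dt_apply, mul_zero, mul_zero] at this
    rw [← this]; group
  rw [mul_assoc, hlg, ← mul_assoc g, h1, ← mul_assoc, ← mul_assoc, ← map_mul]
  congr 3
  ext
  · simp [hsa]
  · simp [hsb]
  · simp only [mul_c]
    field_simp
    ring

/-- the centralizer of `h` in the group of elements acting as diagonal automorphisms -/
def H1 : Subgroup L where
  carrier := {l | (∃ κ κ', d.act l = dt κ κ') ∧ l * d.h = d.h * l}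
  one_mem' := ⟨⟨1, 1, by rw [map_one]; exact del_one.symm⟩, by simp⟩
  mul_mem' := by
    rintro a b ⟨⟨κ, κ', ha⟩, ha2⟩ ⟨⟨μ, μ', hb⟩, hb2⟩
    exact ⟨⟨_, _, by rw [map_mul, ha, hb, dt_mul_dt]⟩, by rw [mul_assoc, hb2, ← mul_assoc, ha2, mul_assoc]⟩
  inv_mem' := by
    rintro a ⟨⟨κ, κ', ha⟩, ha2⟩
    exact ⟨⟨_, _, by rw [map_inv, ha, dt_inv]⟩, by
      rw [inv_mul_eq_iff_eq_mul, ← mul_assoc, ha2, mul_inv_cancel_right]⟩

theorem mem_H1 {l : L} : l ∈ d.H1 ↔ (∃ κ κ', d.act l = dt κ κ') ∧ l * d.h = d.h * l := Iff.rfl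

/-- an element of `j` commuting with an element acting without fixed points is trivial -/
theorem j_comm {g : L} {μ μ' : Kˣ} (hg : d.act g = dt μ μ') (h1 : μ ≠ 1) (h2 : μ' ≠ 1) (h3 : μ * μ' ≠ 1) {t : Hs K}
    (h : d.j t * g = g * d.j t) : t = 1 := by
  apply dt_fix h1 h2 h3
  apply d.inj
  rw [← hg, ← d.hj, ← h, mul_inv_cancel_right]

theorem j_mem_H1 {t : Hs K} (h : d.j t ∈ d.H1) : t = 1 := d.j_comm d.act_h d.hν d.hν' d.hνν' h.2

/-- `H1` is abelian -/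
theorem H1_comm {l m : L} (hl : l ∈ d.H1) (hm : m ∈ d.H1) : l * m = m * l := by
  obtain ⟨⟨κ, κ', h1⟩, -⟩ := id hl
  obtain ⟨⟨μ, μ', h2⟩, -⟩ := id hm
  obtain ⟨s, hs⟩ := d.ker (l * m * l⁻¹ * m⁻¹) (by
    rw [map_mul, map_mul, map_mul, map_inv, map_inv, h1, h2, dt_inv, dt_inv, dt_mul_dt, dt_mul_dt, dt_mul_dt]
    rw [show κ * μ * κ⁻¹ * μ⁻¹ = 1 by rw [mul_comm κ]; group, show κ' * μ' * κ'⁻¹ * μ'⁻¹ = 1 by rw [mul_comm κ']; group]
    exact del_one)
  have h3 : d.j s ∈ d.H1 := by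
    rw [← hs]
    exact mul_mem (mul_mem (mul_mem hl hm) (inv_mem hl)) (inv_mem hm)
  rw [d.j_mem_H1 h3, map_one] at hs
  calc l * m = (l * m * l⁻¹ * m⁻¹) * (m * l) := by group
    _ = m * l := by rw [hs, one_mul]

/-- Any element of `L` is, up to `j`, in the normalizer of `H1`, and then acts in `DDh`. -/
theorem exists_norm (l : L) : ∃ t : Hs K, d.j t * l ∈ Subgroup.normalizer (d.H1 : Set L) ∧ d.act (d.j t * l) ∈ DDh K := by
  obtain ⟨t, δ, hδ, hl⟩ := d.form l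
  have hl' : d.act (d.j t⁻¹ * l) = δ := by
    rw [map_mul, d.act_j, hl, map_inv, inv_mul_cancel_left]
  obtain ⟨l', hl'e⟩ : ∃ l', l' = d.j t⁻¹ * l := ⟨_, rfl⟩
  rw [← hl'e] at hl'
  -- the image of an element of `H1`
  have himg : ∀ (m : L) (δ' : MulAut (Hs K)), δ' ∈ DDh K → d.act m = δ' → ∀ κ κ' : Kˣ, ∀ g : L, d.act g = dt κ κ' →
      ∃ μ μ', d.act (m * g * m⁻¹) = dt μ μ' ∧ (κ ≠ 1 → κ' ≠ 1 → κ * κ' ≠ 1 → μ ≠ 1 ∧ μ' ≠ 1 ∧ μ * μ' ≠ 1) := by
    intro m δ' hδ' hm κ κ' g hg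
    obtain ⟨μ, μ', h1, h2⟩ := dd_dt hδ' κ κ'
    refine ⟨μ, μ', ?_, h2⟩
    rw [map_mul, map_mul, map_inv, hm, hg, h1, mul_inv_cancel_right]
  obtain ⟨μ, μ', hμ1, hμ2⟩ := himg l' δ hδ hl' d.ν d.ν' d.h d.act_h
  obtain ⟨hμ3, hμ4, hμ5⟩ := hμ2 d.hν d.hν' d.hνν'
  -- `l' h l'⁻¹ = j(z)⁻¹ h'`
  obtain ⟨z, hza, hzb, hz⟩ := d.exists_z d.act_h hμ1 d.hνν'
  obtain ⟨h', hh'⟩ : ∃ h', h' = d.j z * (l' * d.h * l'⁻¹) := ⟨_, rfl⟩
  rw [← hh'] at hz
  have hacth' : d.act h' = dt μ μ' := by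
    rw [hh', map_mul, d.act_j, conj_central hza hzb, one_mul, hμ1]
  have hh'H : h' ∈ d.H1 := ⟨⟨_, _, hacth'⟩, hz⟩
  -- find `w` central with `j w * l'` conjugating `h` to `h'`
  have hne : (μ : K) * μ' - 1 ≠ 0 := by
    intro h
    apply hμ5
    apply Units.ext
    rw [Units.val_mul, Units.val_one]
    exact sub_eq_zero.1 h
  obtain ⟨w, hwa, hwb, hw⟩ : ∃ w : Hs K, w.a = 0 ∧ w.b = 0 ∧ (d.j w * l') * d.h * (d.j w * l')⁻¹ = h' := by
    refine ⟨⟨0, 0, -(z.c / ((μ : K) * μ' - 1))⟩, rfl, rfl, ?_⟩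
    set w : Hs K := ⟨0, 0, -(z.c / ((μ : K) * μ' - 1))⟩ with hw
    have e1 : l' * d.h * l'⁻¹ = d.j z⁻¹ * h' := by rw [hh', map_inv, inv_mul_cancel_left]
    have e2 : h' * d.j w⁻¹ = d.j (dt μ μ' w⁻¹) * h' := by
      rw [← hacth', ← d.hj]; group
    calc d.j w * l' * d.h * (d.j w * l')⁻¹ = d.j w * (l' * d.h * l'⁻¹) * d.j w⁻¹ := by
          rw [map_inv]; group
      _ = d.j (w * z⁻¹) * (h' * d.j w⁻¹) := by rw [e1, map_mul]; group
      _ = d.j (w * z⁻¹ * dt μ μ' w⁻¹) * h' := by rw [e2, map_mul _ (w * z⁻¹)]; group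
      _ = h' := by
          have e3 : w * z⁻¹ * dt μ μ' w⁻¹ = 1 := by
            rw [dt_apply, hw]
            ext
            · simp [hza]
            · simp [hzb]
            · simp only [mul_c, inv_c, inv_a, one_c, hza, hzb, mul_zero, add_zero, neg_zero]
              field_simp
              ring
          rw [e3, map_one, one_mul]
  obtain ⟨m, hm⟩ : ∃ m, m = d.j w * l' := ⟨_, rfl⟩
  rw [← hm] at hw
  have hactm : d.act m = δ := by
    rw [hm, map_mul, d.act_j, conj_central hwa hwb, one_mul, hl']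
  -- `H1` is the centralizer of `h'`
  have hC : ∀ g : L, (∃ κ κ', d.act g = dt κ κ') → g * h' = h' * g → g ∈ d.H1 := by
    rintro g ⟨κ, κ', hg⟩ hgh
    obtain ⟨s, hsa, hsb, hs⟩ := d.exists_z d.act_h hg d.hνν'
    have hsg : d.j s * g ∈ d.H1 := ⟨⟨κ, κ', by rw [map_mul, d.act_j, conj_central hsa hsb, one_mul, hg]⟩, hs⟩
    have hs1 : d.j s * h' = h' * d.j s := by
      have e1 := d.H1_comm hsg hh'H
      rw [mul_assoc, hgh, ← mul_assoc, ← mul_assoc] at e1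
      exact mul_right_cancel e1
    rw [d.j_comm hacth' hμ3 hμ4 hμ5 hs1, map_one, one_mul] at hsg
    exact hsg
  have hsub : ∀ g ∈ d.H1, m * g * m⁻¹ ∈ d.H1 := by
    intro g hg
    obtain ⟨⟨κ, κ', hg1⟩, hg2⟩ := id hg
    obtain ⟨μ1, μ1', e1, -⟩ := himg m δ hδ hactm κ κ' g hg1
    refine hC _ ⟨_, _, e1⟩ ?_
    rw [← hw]
    calc m * g * m⁻¹ * (m * d.h * m⁻¹) = m * (g * d.h) * m⁻¹ := by group
      _ = m * (d.h * g) * m⁻¹ := by rw [hg2]
      _ = _ := by group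
  have hsub' : ∀ g ∈ d.H1, m⁻¹ * g * m ∈ d.H1 := by
    intro g hg
    obtain ⟨⟨κ, κ', hg1⟩, hg2⟩ := id hg
    obtain ⟨μ1, μ1', e1, -⟩ := himg m⁻¹ δ⁻¹ (inv_mem hδ) (by rw [map_inv, hactm]) κ κ' g hg1
    rw [inv_inv] at e1
    refine ⟨⟨_, _, e1⟩, ?_⟩
    have e2 : d.h = m⁻¹ * h' * m := by rw [← hw]; group
    have e3 : g * h' = h' * g := d.H1_comm hg hh'H
    rw [e2]
    calc m⁻¹ * g * m * (m⁻¹ * h' * m) = m⁻¹ * (g * h') * m := by group
      _ = m⁻¹ * (h' * g) * m := by rw [e3]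
      _ = _ := by group
  refine ⟨w * t⁻¹, ?_, ?_⟩
  · have e1 : d.j (w * t⁻¹) * l = m := by rw [hm, hl'e, map_mul, mul_assoc]
    rw [e1, Subgroup.mem_normalizer_iff]
    intro g
    constructor
    · exact hsub g
    · intro hg
      have := hsub' _ hg
      have e4 : m⁻¹ * (m * g * m⁻¹) * m = g := by group
      rwa [e4] at this
  · have e1 : d.j (w * t⁻¹) * l = m := by rw [hm, hl'e, map_mul, mul_assoc]
    rw [e1, hactm]
    exact hδ

/-- the complement -/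
def Y : Subgroup L := Subgroup.normalizer (d.H1 : Set L)

theorem j_mem_Y {t : Hs K} (h : d.j t ∈ d.Y) : t = 1 := by
  have hh : d.h ∈ d.H1 := ⟨⟨_, _, d.act_h⟩, rfl⟩
  have h1 : d.j t * d.h * (d.j t)⁻¹ ∈ d.H1 := (Subgroup.mem_normalizer_iff.1 h _).1 hh
  have h2 : d.j t * d.h * (d.j t)⁻¹ * d.h⁻¹ ∈ d.H1 := mul_mem h1 (inv_mem hh)
  have h3 : d.j t * d.h * (d.j t)⁻¹ * d.h⁻¹ = d.j (t * d.act d.h t⁻¹) := by
    rw [map_mul, ← d.hj, map_inv]; group
  rw [h3] at h2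
  have h4 := d.j_mem_H1 h2
  rw [h4, map_one] at h3
  have h5 : d.j t * d.h = d.h * d.j t := by
    calc d.j t * d.h = (d.j t * d.h * (d.j t)⁻¹ * d.h⁻¹) * (d.h * d.j t) := by group
      _ = _ := by rw [h3, one_mul]
  exact d.j_comm d.act_h d.hν d.hν' d.hνν' h5

theorem act_Y {y : L} (hy : y ∈ d.Y) : d.act y ∈ DDh K := by
  obtain ⟨t, h1, h2⟩ := d.exists_norm y
  have h3 : d.j t ∈ d.Y := by
    have := mul_mem (S := Subgroup L) h1 (inv_mem hy)
    rwa [mul_inv_cancel_right] at this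
  rw [d.j_mem_Y h3, map_one, one_mul] at h2
  exact h2

theorem exists_eq (l : L) : ∃ t : Hs K, ∃ y ∈ d.Y, l = d.j t * y := by
  obtain ⟨t, h1, -⟩ := d.exists_norm l
  exact ⟨t⁻¹, _, h1, by rw [map_inv, inv_mul_cancel_left]⟩

/-- elements acting as diagonal automorphisms are in `Y` up to central elements -/
theorem mem_Y_of_H1 {l : L} (h : l ∈ d.H1) : l ∈ d.Y := Subgroup.le_normalizer h

end SD

end Cfsg.Agent.H780.HL
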